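import Cfsg.Agent.Lib.Blocks.InvolutionPairs.Pairs

/-!
# Without a character of defect zero the class constants of an involution class vanish modulo p
-/

set_option autoImplicit false

namespace CfsgLib.Blocks.InvolutionPairs

open Cfsg CfsgLib.Char CfsgLib.CharIntegral
open scoped Classical

variable {G : Type*} [Group G] [Fintype G] {p : ℕ} [Fact p.Prime]

theorem dvd_card_pairs (hdvd : p ∣ Nat.card G) {t : G}
    (hCt : ¬ p ∣ Nat.card ↥(Subgroup.centralizer ({t} : Set G)))
    (hno : ¬ ∃ χ : IrrCharacter G,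
      (charDegree (χ : G → ℂ)).factorization p = (Nat.card G).factorization p) (g : G) :
    p ∣ ((classFinset t ×ˢ classFinset t).filter fun u => u.1 * u.2 = g).card := by
  haveI : Fintype (IrrCharacter G) := Fintype.ofFinite _
  have hp : p.Prime := Fact.out
  set f := ((classFinset t ×ˢ classFinset t).filter fun u => u.1 * u.2 = g).card with hf
  set L := Nat.card G / p with hL
  set c := Nat.card ↥(Subgroup.centralizer ({t} : Set G)) with hc
  set n := (Subgroup.centralizer ({t} : Set G)).index with hn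
  have hcn : c * n = Nat.card G := Subgroup.card_mul_index _
  have hdeg : ∀ χ : IrrCharacter G, charDegree (χ : G → ℂ) ∣ L := by
    intro χ
    have hd := CharDegree.charDegree_dvd_card χ
    have hd0 : charDegree (χ : G → ℂ) ≠ 0 := (CharDegree.charDegree_pos χ).ne'
    rw [hL, Nat.dvd_div_iff_mul_dvd hdvd]
    rw [← Nat.factorization_prime_le_iff_dvd (Nat.mul_ne_zero hp.ne_zero hd0) Nat.card_pos.ne']
    intro r hr
    have hle := (Nat.factorization_prime_le_iff_dvd hd0 Nat.card_pos.ne').2 hd r hr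
    rw [Nat.factorization_mul hp.ne_zero hd0, Finsupp.add_apply, hp.factorization]
    by_cases hrp : r = p
    · subst hrp
      have hne : (charDegree (χ : G → ℂ)).factorization r ≠ (Nat.card G).factorization r :=
        fun e => hno ⟨χ, e⟩
      rw [Finsupp.single_eq_same]
      omega
    · rw [Finsupp.single_eq_of_ne hrp, zero_add]
      exact hle
  have hint : IsIntegral ℤ (((f * c ^ 2 : ℕ) : ℂ) / (p : ℂ)) := by
    have hsum : IsIntegral ℤ (∑ χ : IrrCharacter G, (χ : G → ℂ) t ^ 2 * (χ : G → ℂ) g⁻¹ *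
        ((L / charDegree (χ : G → ℂ) : ℕ) : ℂ)) := by
      refine IsIntegral.sum _ fun χ _ => ?_
      obtain ⟨k, ρ, -, hρ⟩ := χ.2
      have h1 : ∀ x : G, IsIntegral ℤ ((χ : G → ℂ) x) := fun x =>
        hρ ▸ CfsgLib.Char.isIntegral_character ρ x
      exact (((h1 t).pow 2).mul (h1 _)).mul
        (isIntegral_algebraMap (x := ((L / charDegree (χ : G → ℂ) : ℕ) : ℤ)))
    convert hsum using 1
    have h := Order443520.card_pairs t g
    rw [← hf, ← hn, ← hcn, Nat.cast_mul] at h
    have hL' : (L : ℂ) = (Nat.card G : ℂ) / (p : ℂ) := by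
      rw [hL, Nat.cast_div hdvd (Nat.cast_ne_zero.2 hp.ne_zero)]
    have hn0 : (n : ℂ) ≠ 0 := Nat.cast_ne_zero.2 Subgroup.index_ne_zero_of_finite
    have h2 : (∑ χ : IrrCharacter G, (χ : G → ℂ) t ^ 2 * (χ : G → ℂ) g⁻¹ *
        ((L / charDegree (χ : G → ℂ) : ℕ) : ℂ)) = (L : ℂ) *
        ∑ χ : IrrCharacter G, (χ : G → ℂ) t ^ 2 / (χ : G → ℂ) 1 * (χ : G → ℂ) g⁻¹ := by
      rw [Finset.mul_sum]
      refine Finset.sum_congr rfl fun χ _ => ?_
      rw [Nat.cast_div (hdeg χ) (Nat.cast_ne_zero.2 (CharDegree.charDegree_pos χ).ne'),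
        CharDegree.cast_irrDegree χ]
      ring
    rw [h2, hL', ← hcn, Nat.cast_mul, Nat.cast_mul, Nat.cast_pow]
    apply mul_left_cancel₀ (pow_ne_zero 2 hn0)
    calc (n : ℂ) ^ 2 * ((f : ℂ) * c ^ 2 / p) = (f : ℂ) * (c * n) * ((c * n) / p) := by ring
      _ = _ := by rw [h]; ring
  have hpd := CfsgLib.CharIntegral.dvd_of_isIntegral_div hp.ne_zero hint
  exact ((hp.dvd_mul).1 hpd).resolve_right fun e => hCt (hp.dvd_of_dvd_pow e)

end CfsgLib.Blocks.InvolutionPairs
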