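import Mathlib

/-!
# An element of even order acting on a subgroup of odd order
-/

set_option autoImplicit false

namespace CfsgLib.Blocks.InvolutionPairs

open Subgroup

variable {G : Type*} [Group G] [Finite G]

/-- An involution normalising an odd subgroup `C` has a companion in its `C`-coset normalising a
Sylow subgroup of `C`. -/
theorem exists_involution_normalizing_sylow {p : ℕ} [Fact p.Prime] {C : Subgroup G} {u : G}
    (hu : orderOf u = 2) (huC : u ∈ normalizer (C : Set G)) (hodd : Odd (Nat.card C)) :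
    ∃ (T : Sylow p C) (w : G), orderOf w = 2 ∧ u⁻¹ * w ∈ C ∧
      w ∈ normalizer ((T : Subgroup C).map C.subtype : Set G) := by
  classical
  set N := normalizer (C : Set G) with hN
  have hCN : C ≤ N := le_normalizer
  haveI : (C.subgroupOf N).Normal := normal_in_normalizer
  set C' := C.subgroupOf N with hC'
  let e : C' ≃* C := subgroupOfEquivOfLe hCN
  obtain ⟨T'⟩ := (inferInstance : Nonempty (Sylow p C'))
  let T : Sylow p C := T'.mapSurjective (f := e.toMonoidHom) e.surjective
  set T₁ : Subgroup N := (T' : Subgroup C').map C'.subtype with hT₁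
  obtain ⟨n, hn, c, hc, hnc⟩ :
      ∃ n ∈ normalizer (T₁ : Set N), ∃ c ∈ C', n * c = (⟨u, huC⟩ : N) := by
    have h : (⟨u, huC⟩ : N) ∈ (↑(normalizer (T₁ : Set N) ⊔ C') : Set N) := by
      rw [Sylow.normalizer_sup_eq_top T']; exact mem_top _
    rw [Subgroup.mul_normal] at h
    exact h
  have hu' : orderOf (⟨u, huC⟩ : N) = 2 := by rw [Subgroup.orderOf_mk]; exact hu
  have huC' : (⟨u, huC⟩ : N) ∉ C' := fun h =>
    hodd.not_two_dvd_nat (hu ▸ orderOf_dvd_natCard C (mem_subgroupOf.1 h))
  set π := QuotientGroup.mk' C'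
  have hπ : π n = π (⟨u, huC⟩ : N) := by
    rw [← hnc, map_mul, QuotientGroup.mk'_apply C' c, (QuotientGroup.eq_one_iff c).2 hc, mul_one]
  have hord : orderOf (π n) = 2 := by
    refine (Nat.prime_two.eq_one_or_self_of_dvd _ (hu' ▸ hπ ▸ orderOf_map_dvd _ _)).resolve_left ?_
    rw [orderOf_eq_one_iff, hπ, QuotientGroup.mk'_apply, QuotientGroup.eq_one_iff]
    exact huC'
  have heven : 2 ∣ orderOf n := hord ▸ orderOf_map_dvd _ _
  set w := n ^ (orderOf n / 2) with hw
  have hwo : orderOf w = 2 := orderOf_pow_orderOf_div (orderOf_pos n).ne' heven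
  have hwC : (⟨u, huC⟩ : N)⁻¹ * w ∈ C' := by
    have hw1 : π w ≠ 1 := by
      intro h
      rw [QuotientGroup.mk'_apply, QuotientGroup.eq_one_iff] at h
      exact hodd.not_two_dvd_nat (hwo ▸ Subgroup.orderOf_coe w ▸
        orderOf_dvd_natCard C (mem_subgroupOf.1 h))
    have hpw : π w = π (⟨u, huC⟩ : N) := by
      rw [hw, map_pow, ← hπ]
      obtain ⟨k, hk⟩ : ∃ k, orderOf n / 2 = k := ⟨_, rfl⟩
      rw [hk]
      rcases Nat.even_or_odd k with ⟨j, rfl⟩ | ⟨j, rfl⟩
      · exfalso
        apply hw1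
        rw [hw, hk, map_pow, ← two_mul, pow_mul, ← hord, pow_orderOf_eq_one, one_pow]
      · rw [pow_add, pow_mul, ← hord, pow_orderOf_eq_one, one_pow, one_mul, pow_one]
    rw [← QuotientGroup.eq_one_iff, ← QuotientGroup.mk'_apply, map_mul, map_inv, hpw,
      inv_mul_cancel]
  refine ⟨T, w, by rw [Subgroup.orderOf_coe]; exact hwo, mem_subgroupOf.1 hwC, ?_⟩
  have hTmap : (T : Subgroup C).map C.subtype = T₁.map N.subtype := by
    rw [hT₁, show (T : Subgroup C) = (T' : Subgroup C').map e.toMonoidHom from rfl, map_map, map_map]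
    congr 1
  rw [hTmap]
  exact le_normalizer_map N.subtype ⟨w, pow_mem hn _, rfl⟩

end CfsgLib.Blocks.InvolutionPairs
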