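import Cfsg.Agent.Lib.Blocks.InvolutionPairs.Inverted
import Cfsg.Agent.Lib.Blocks.InvolutionPairs.Congr
import Cfsg.Agent.Lib.Blocks.InvolutionPairs.Coset
import Cfsg.Agent.Lib.Core.SolvableStruct
import Cfsg.Agent.Lib.Geo.Transitive
import Cfsg.Agent.Lib.Signalizer.Count
import Cfsg.Agent.S0205

/-!
# Transitive groups of degree a power of p with odd centralisers of p-elements (S4745)

Without a character of defect zero the Sylow subgroup is abelian regular, there is one class of
involutions, any two swappers of a pair have the same centre, and so the Sylow subgroup is normal.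
-/

set_option autoImplicit false
set_option linter.style.haveILetI false

namespace CfsgLib.Blocks.InvolutionPairs

open MulAction

variable {G Ω : Type*} [Group G] [Finite G] [MulAction G Ω] [FaithfulSMul G Ω] [Finite Ω]
  [IsPretransitive G Ω] {p r : ℕ} [hp : Fact p.Prime]

/-- The standing hypotheses. -/
structure Hyp (G Ω : Type*) [Group G] (p r : ℕ) : Prop where
  odd_p : p ≠ 2
  cent : OddCent p G
  degree : Nat.card Ω = p ^ r
  dvd : p ∣ Nat.card G
  noZero : ¬ ∃ χ : Cfsg.IrrCharacter G,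
    (Cfsg.charDegree (χ : G → ℂ)).factorization p = (Nat.card G).factorization p

theorem exists_sqrt_inv {H : Subgroup G} (hodd : Odd (Nat.card H)) {z : G} (hz : z ∈ H) :
    ∃ c ∈ H, c * c = z ∧ ∀ u : G, u * z * u⁻¹ = z⁻¹ → u * c * u⁻¹ = c⁻¹ := by
  obtain ⟨k, hk⟩ := hodd.of_dvd_nat (Subgroup.orderOf_dvd_natCard H hz)
  refine ⟨z ^ (k + 1), pow_mem hz _, ?_, fun u hu => ?_⟩
  · rw [← pow_add, show k + 1 + (k + 1) = orderOf z + 1 by omega, pow_succ, pow_orderOf_eq_one,
      one_mul]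
  · rw [← conj_pow, hu, inv_pow]

theorem odd_card_sylow (h : Hyp G Ω p r) (Q : Sylow p G) : Odd (Nat.card ↥(Q : Subgroup G)) := by
  rw [Q.card_eq_multiplicity]
  exact (hp.out.odd_of_ne_two h.odd_p).pow

theorem exists_sylow_abelian_inverted (h : Hyp G Ω p r) (hG : 2 ∣ Nat.card G) :
    ∃ (P : Sylow p G) (v : G), orderOf v = 2 ∧ IsMulCommutative ↥(P : Subgroup G) ∧
      ∀ x ∈ (P : Subgroup G), v * x * v⁻¹ = x⁻¹ := by
  haveI := Fintype.ofFinite G
  obtain ⟨t, ht⟩ := exists_prime_orderOf_dvd_card' (G := G) 2 hG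
  obtain ⟨u, y, hu, hy, hyp, hinv⟩ :=
    exists_inverted h.dvd ht (not_dvd_of_oddCent h.cent ht) h.noZero
  exact exists_sylow_inverted h.cent hu hy hyp hinv

variable (hab : ∀ Q : Sylow p G, IsMulCommutative ↥(Q : Subgroup G))
include hab

omit [Finite G] [FaithfulSMul G Ω] [Finite Ω] [IsPretransitive G Ω] in
theorem sylow_mul_comm (Q : Sylow p G) {a b : G} (ha : a ∈ (Q : Subgroup G))
    (hb : b ∈ (Q : Subgroup G)) : a * b = b * a :=
  congrArg Subtype.val ((hab Q).is_comm.comm ⟨a, ha⟩ ⟨b, hb⟩)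

theorem exists_smul (h : Hyp G Ω p r) (Q : Sylow p G) (a b : Ω) :
    ∃ x ∈ (Q : Subgroup G), x • a = b := by
  haveI := CfsgLib.Geo.sylow_isPretransitive Q h.degree
  obtain ⟨x, hx⟩ := exists_smul_eq (Q : Subgroup G) a b
  exact ⟨x, x.2, hx⟩

theorem sylow_free (h : Hyp G Ω p r) (Q : Sylow p G) {x : G} (hx : x ∈ (Q : Subgroup G)) {a : Ω}
    (ha : x • a = a) : x = 1 := by
  refine eq_of_smul_eq_smul fun b : Ω => ?_
  obtain ⟨y, hy, rfl⟩ := exists_smul hab h Q a b
  rw [one_smul, smul_smul, sylow_mul_comm hab Q hx hy, ← smul_smul, ha]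

theorem mem_of_commute (h : Hyp G Ω p r) (a : Ω) (Q : Sylow p G) {c : G}
    (hc : ∀ z ∈ (Q : Subgroup G), c * z = z * c) : c ∈ (Q : Subgroup G) := by
  obtain ⟨x, hx, hxa⟩ := exists_smul hab h Q a (c • a)
  have hfix : x⁻¹ * c = 1 := by
    refine eq_of_smul_eq_smul fun b : Ω => ?_
    obtain ⟨y, hy, rfl⟩ := exists_smul hab h Q a b
    rw [one_smul, smul_smul, mul_assoc, hc y hy, ← mul_assoc,
      sylow_mul_comm hab Q (inv_mem hx) hy, mul_assoc, ← smul_smul, ← smul_smul, ← hxa,
      inv_smul_smul]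
  exact (inv_mul_eq_one.1 hfix) ▸ hx

theorem mem_normalizer_of_cent (h : Hyp G Ω p r) (Q : Sylow p G) {x : G}
    (hx : x ∈ (Q : Subgroup G)) (hx1 : x ≠ 1) :
    Subgroup.centralizer ({x} : Set G) ≤ Subgroup.normalizer ((Q : Subgroup G) : Set G) := by
  obtain ⟨k, hk⟩ := IsPGroup.iff_orderOf.1 Q.2 ⟨x, hx⟩
  rw [Subgroup.orderOf_mk] at hk
  set C := Subgroup.centralizer ({x} : Set G) with hCdef
  haveI : Group.IsSolvable C := Cfsg.Agent.S0205.result (h.cent x hx1 ⟨k, hk⟩)
  have hQC : (Q : Subgroup G) ≤ C := fun z hz =>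
    Subgroup.mem_centralizer_singleton_iff.2 (sylow_mul_comm hab Q hz hx)
  haveI : IsPretransitive C Ω := ⟨fun a b => by
    obtain ⟨z, hz, hzb⟩ := exists_smul hab h Q a b
    exact ⟨⟨z, hQC hz⟩, hzb⟩⟩
  have hO : Cfsg.pPrimeCore p C = ⊥ := by
    refine (Subgroup.eq_bot_iff_forall _).2 fun o ho => ?_
    refine Subtype.ext (eq_of_smul_eq_smul fun a : Ω => ?_)
    rw [Subgroup.coe_one, one_smul]
    set S := stabilizer C a
    set O := Cfsg.pPrimeCore p C
    haveI : O.Normal := CfsgLib.Core.normal_pPrimeCore p C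
    have h1 : S.relIndex O ∣ p ^ r := by
      have h4 := (Subgroup.relIndex_mul_relIndex (S ⊓ O) S (S ⊔ O) inf_le_left le_sup_left).trans
        (Subgroup.relIndex_mul_relIndex (S ⊓ O) O (S ⊔ O) inf_le_right le_sup_right).symm
      rw [Subgroup.inf_relIndex_left, Subgroup.inf_relIndex_right, Subgroup.relIndex_sup_right,
        mul_comm (S.relIndex O)] at h4
      have h5 := mul_left_cancel₀ (ne_zero_of_dvd_ne_zero Nat.card_pos.ne' (Subgroup.relIndex_dvd_card O S)) h4
      rw [← h5, ← h.degree, ← index_stabilizer_of_transitive C a]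
      exact Dvd.intro _ (Subgroup.relIndex_mul_index (le_sup_left : S ≤ S ⊔ O))
    have h2 : S.relIndex O ∣ Nat.card O := Subgroup.relIndex_dvd_card _ _
    have h3 := Nat.eq_one_of_dvd_coprimes
      ((CfsgLib.Core.coprime_card_pPrimeCore p C).pow_right r) h2 h1
    exact mem_stabilizer_iff.1 (Subgroup.relIndex_eq_one.1 h3 ho)
  have hn := CfsgLib.Core.sylow_sup_pPrimeCore_normal_of_abelian (Q.subtype hQC)
    ⟨⟨fun y z => Subtype.ext (Subtype.ext (sylow_mul_comm hab Q y.2 z.2))⟩⟩
  rw [hO, sup_bot_eq, Sylow.coe_subtype] at hn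
  exact (Subgroup.normal_subgroupOf_iff_le_normalizer hQC).1 hn

theorem mem_of_normalizer (Q : Sylow p G) {w : G}
    (hw : w ∈ Subgroup.normalizer ((Q : Subgroup G) : Set G))
    (hwp : ∃ k : ℕ, orderOf w = p ^ k) : w ∈ (Q : Subgroup G) := by
  obtain ⟨k, hk⟩ := hwp
  have hz : IsPGroup p (Subgroup.zpowers w) :=
    IsPGroup.of_card (n := k) (by rw [Nat.card_zpowers, hk])
  have := Q.3 (hz.to_sup_of_normal_right' Q.2 (Subgroup.zpowers_le.2 hw)) le_sup_right
  exact this ▸ Subgroup.mem_sup_left (Subgroup.mem_zpowers w)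

/-- An involution inverting a non-identity element of `Q` inverts `Q`. -/
theorem inverts_sylow (h : Hyp G Ω p r) (Q : Sylow p G) {u y : G} (hu : orderOf u = 2)
    (hy : y ∈ (Q : Subgroup G)) (hy1 : y ≠ 1) (hinv : u * y * u⁻¹ = y⁻¹) :
    ∀ z ∈ (Q : Subgroup G), u * z * u⁻¹ = z⁻¹ := by
  have hQ : ∀ z ∈ (Q : Subgroup G), u * z * u⁻¹ ∈ (Q : Subgroup G) := by
    intro z hz
    refine mem_of_normalizer hab Q (mem_normalizer_of_cent hab h Q hy hy1 ?_) ?_
    · rw [Subgroup.mem_centralizer_singleton_iff]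
      have hy' : u * y⁻¹ * u⁻¹ = y := by
        rw [show u * y⁻¹ * u⁻¹ = (u * y * u⁻¹)⁻¹ by group, hinv, inv_inv]
      calc u * z * u⁻¹ * y = u * z * u⁻¹ * (u * y⁻¹ * u⁻¹) := by rw [hy']
        _ = u * (z * y⁻¹) * u⁻¹ := by group
        _ = u * (y⁻¹ * z) * u⁻¹ := by rw [sylow_mul_comm hab Q hz (inv_mem hy)]
        _ = (u * y⁻¹ * u⁻¹) * (u * z * u⁻¹) := by group
        _ = y * (u * z * u⁻¹) := by rw [hy']
    · obtain ⟨k, hk⟩ := IsPGroup.iff_orderOf.1 Q.2 ⟨z, hz⟩
      rw [Subgroup.orderOf_mk] at hk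
      refine ⟨k, ?_⟩
      rw [← hk]
      simpa using orderOf_injective (MulAut.conj u).toMonoidHom (MulAut.conj u).injective z
  have huN : u ∈ Subgroup.normalizer ((Q : Subgroup G) : Set G) := by
    rw [Subgroup.mem_normalizer_iff]
    intro z
    refine ⟨hQ z, fun hz => ?_⟩
    have := hQ _ hz
    have huu : u * u = 1 := by rw [← pow_two, ← hu, pow_orderOf_eq_one]
    rwa [show u * (u * z * u⁻¹) * u⁻¹ = (u * u) * z * (u * u)⁻¹ by group, huu, one_mul, inv_one,
      mul_one] at this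
  exact fun z hz => conj_eq_inv h.cent hu Q.2 huN hz

/-- Every involution inverts a Sylow subgroup. -/
theorem exists_inverted_sylow (h : Hyp G Ω p r) {t : G} (ht : orderOf t = 2) :
    ∃ Q : Sylow p G, ∀ z ∈ (Q : Subgroup G), t * z * t⁻¹ = z⁻¹ := by
  haveI := Fintype.ofFinite G
  obtain ⟨u, y, hconj, -, hy, ⟨k, hk⟩, hinv⟩ :=
    exists_inverted_conj h.dvd ht (not_dvd_of_oddCent h.cent ht) h.noZero
  obtain ⟨c, hc⟩ := isConj_iff.1 hconj
  set y' := c⁻¹ * y * c
  have hinv' : t * y' * t⁻¹ = y'⁻¹ := by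
    have : t = c⁻¹ * u * c := by rw [← hc]; group
    calc t * y' * t⁻¹ = c⁻¹ * (u * y * u⁻¹) * c := by rw [this]; simp only [y']; group
      _ = y'⁻¹ := by rw [hinv]; simp only [y']; group
  have hy' : orderOf y' = p ^ k := by
    rw [← hk]
    simpa [y', mul_assoc] using orderOf_injective (MulAut.conj c⁻¹).toMonoidHom (MulAut.conj c⁻¹).injective y
  have hzp : IsPGroup p (Subgroup.zpowers y') :=
    IsPGroup.of_card (n := k) (by rw [Nat.card_zpowers, hy'])
  obtain ⟨Q, hQ⟩ := hzp.exists_le_sylow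
  refine ⟨Q, inverts_sylow hab h Q ht (hQ (Subgroup.mem_zpowers y')) (fun e => hy ?_) hinv'⟩
  simpa [y', mul_assoc, conj_eq_one_iff] using congrArg (fun z => c * z * c⁻¹) e

/-- Involutions form one class. -/
theorem isConj_involutions (h : Hyp G Ω p r) (a : Ω) {s t : G} (hs : orderOf s = 2)
    (ht : orderOf t = 2) : IsConj s t := by
  obtain ⟨Q, hQ⟩ := exists_inverted_sylow hab h ht
  obtain ⟨R, hR⟩ := exists_inverted_sylow hab h hs
  obtain ⟨g, hg⟩ := MulAction.exists_smul_eq G R Q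
  set s' := g * s * g⁻¹
  have hs' : ∀ z ∈ (Q : Subgroup G), s' * z * s'⁻¹ = z⁻¹ := by
    intro z hz
    rw [← hg, Sylow.coe_subgroup_smul] at hz
    obtain ⟨w, hw, rfl⟩ := hz
    change g * s * g⁻¹ * (g * w * g⁻¹) * (g * s * g⁻¹)⁻¹ = (g * w * g⁻¹)⁻¹
    calc g * s * g⁻¹ * (g * w * g⁻¹) * (g * s * g⁻¹)⁻¹ = g * (s * w * s⁻¹) * g⁻¹ := by group
      _ = (g * w * g⁻¹)⁻¹ := by rw [hR w hw]; group
  have ht' : t⁻¹ = t := inv_eq_of_mul_eq_one_right (by rw [← pow_two, ← ht, pow_orderOf_eq_one])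
  set z := t * s'
  have hzQ : z ∈ (Q : Subgroup G) := mem_of_commute hab h a Q fun q hq => by
    have h1 : t * (s' * q * s'⁻¹) * t⁻¹ = q := by
      rw [hs' q hq, show t * q⁻¹ * t⁻¹ = (t * q * t⁻¹)⁻¹ by group, hQ q hq, inv_inv]
    calc z * q = t * (s' * q * s'⁻¹) * t⁻¹ * z := by simp only [z]; group
      _ = q * z := by rw [h1]
  obtain ⟨c, hc, hcc, hcinv⟩ := exists_sqrt_inv (odd_card_sylow h Q) hzQ
  have hct := hcinv t (hQ z hzQ)
  refine (isConj_iff.2 ⟨g, rfl⟩ : IsConj s s').trans (isConj_iff.2 ⟨c, ?_⟩)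
  have hs'eq : s' = t * z := by simp only [z]; rw [← mul_assoc]; nth_rw 2 [← ht']; simp
  calc c * s' * c⁻¹ = c * t * (c * c) * c⁻¹ := by rw [hs'eq, hcc]; group
    _ = (c * (t * c * t⁻¹)) * t := by group
    _ = t := by rw [hct, mul_inv_cancel, one_mul]

/-- An involution fixes exactly one point. -/
theorem existsUnique_fixed (h : Hyp G Ω p r) {t : G} (ht : orderOf t = 2) :
    ∃! a : Ω, t • a = a := by
  obtain ⟨Q, hQ⟩ := exists_inverted_sylow hab h ht
  have hne : Nonempty Ω := (Nat.card_pos_iff.1 (h.degree ▸ pow_pos hp.out.pos r)).1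
  obtain ⟨b⟩ := hne
  obtain ⟨y, hy, hyb⟩ := exists_smul hab h Q b (t • b)
  obtain ⟨c, hc, hcc, -⟩ := exists_sqrt_inv (odd_card_sylow h Q) hy
  have htc : ∀ z ∈ (Q : Subgroup G), t * z = z⁻¹ * t := fun z hz => by rw [← hQ z hz]; group
  have hfix : t • c • b = c • b := by
    rw [smul_smul, htc c hc, ← smul_smul, ← hyb, ← hcc, ← smul_smul, inv_smul_smul]
  refine ⟨c • b, hfix, fun a ha => ?_⟩
  obtain ⟨x, hx, rfl⟩ := exists_smul hab h Q (c • b) a
  have h2 : x * x = 1 := by
    refine sylow_free hab h Q (mul_mem hx hx) (a := c • b) ?_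
    rw [← smul_smul, ← inv_smul_eq_iff.1 (?_ : x⁻¹ • c • b = x • c • b)]
    calc x⁻¹ • c • b = x⁻¹ • t • c • b := by rw [hfix]
      _ = t • x • c • b := by rw [smul_smul, smul_smul t, htc x hx]
      _ = x • c • b := ha
  have hx1 : x = 1 := by
    rw [← orderOf_eq_one_iff]
    exact Nat.eq_one_of_dvd_coprimes (Nat.coprime_two_left.2 ((odd_card_sylow h Q).of_dvd_nat
      (Subgroup.orderOf_dvd_natCard _ hx))) (orderOf_dvd_of_pow_eq_one (by rw [pow_two]; exact h2))
      dvd_rfl
  rw [hx1, one_smul]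

/-- A real element other than an involution with odd centraliser has p in its centraliser order. -/
theorem dvd_card_centralizer (h : Hyp G Ω p r) (a : Ω) {g u : G} (hg : g * g ≠ 1)
    (hu : orderOf u = 2) (hug : u * g * u⁻¹ = g⁻¹)
    (hodd : Odd (Nat.card ↥(Subgroup.centralizer ({g} : Set G)))) :
    p ∣ Nat.card ↥(Subgroup.centralizer ({g} : Set G)) := by
  classical
  haveI := Fintype.ofFinite G
  by_contra hnd
  set C := Subgroup.centralizer ({g} : Set G) with hC
  have hf := dvd_card_pairs h.dvd (t := u) (not_dvd_of_oddCent h.cent hu) h.noZero g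
  set F := ((CfsgLib.CharIntegral.classFinset u ×ˢ CfsgLib.CharIntegral.classFinset u).filter
    fun e => e.1 * e.2 = g) with hF
  have hK : ∀ x : G, x ∈ CfsgLib.CharIntegral.classFinset u ↔ orderOf x = 2 := fun x => by
    rw [CfsgLib.CharIntegral.mem_classFinset]
    refine ⟨fun hc => ?_, fun hx => isConj_involutions hab h a hu hx⟩
    obtain ⟨c, rfl⟩ := isConj_iff.1 hc
    rw [← hu]
    simpa using orderOf_injective (MulAut.conj c).toMonoidHom (MulAut.conj c).injective u
  letI : MulAction C G := MulAction.compHom G ((MulAut.conj (G := G)).comp C.subtype)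
  have hsmul : ∀ (c : C) (x : G), c • x = (c : G) * x * (c : G)⁻¹ := fun c x => rfl
  have hinv2 : ∀ x : G, orderOf x = 2 → x * x = 1 ∧ x⁻¹ = x := fun x hx =>
    have h1 : x * x = 1 := by rw [← pow_two, ← hx, pow_orderOf_eq_one]
    ⟨h1, inv_eq_of_mul_eq_one_right h1⟩
  have hcard : F.card = Nat.card (MulAction.orbit C u) := by
    rw [Nat.card_coe_set_eq, Set.ncard_eq_toFinset_card _ (Set.toFinite _)]
    refine Finset.card_bij (fun e _ => e.1) (fun e he => ?_) (fun e he e' he' heq => ?_)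
      (fun x hx => ?_)
    · obtain ⟨he1, he2⟩ := Finset.mem_filter.1 he
      obtain ⟨ha, hb⟩ := Finset.mem_product.1 he1
      rw [hK] at ha hb
      obtain ⟨ha1, ha2⟩ := hinv2 _ ha
      obtain ⟨hu1, hu2⟩ := hinv2 _ hu
      obtain ⟨hb1, hb2⟩ := hinv2 _ hb
      have hag : e.1 * g * e.1⁻¹ = g⁻¹ := by
        rw [← he2, mul_inv_rev, hb2, ha2, ← mul_assoc, ha1, one_mul]
      have hd : u * e.1 ∈ C := by
        rw [hC, Subgroup.mem_centralizer_singleton_iff]
        have h1 : u * (e.1 * g * e.1⁻¹) * u⁻¹ = g := by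
          rw [hag, show u * g⁻¹ * u⁻¹ = (u * g * u⁻¹)⁻¹ by group, hug, inv_inv]
        calc u * e.1 * g = u * (e.1 * g * e.1⁻¹) * u⁻¹ * (u * e.1) := by group
          _ = g * (u * e.1) := by rw [h1]
      obtain ⟨c, hc, hcc, hcinv⟩ := exists_sqrt_inv hodd hd
      have hct := hcinv u (by rw [mul_inv_rev, hu2, ha2, ← mul_assoc, hu1, one_mul])
      rw [Set.Finite.mem_toFinset]
      refine ⟨⟨c⁻¹, inv_mem hc⟩, ?_⟩
      change c⁻¹ * u * c⁻¹⁻¹ = e.1
      rw [inv_inv]
      calc c⁻¹ * u * c = (u * c * u⁻¹) * u * c := by rw [hct]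
        _ = u * (c * c) := by group
        _ = e.1 := by rw [hcc, ← mul_assoc, hu1, one_mul]
    · have h1 := (Finset.mem_filter.1 he).2
      have h2 := (Finset.mem_filter.1 he').2
      change e.1 = e'.1 at heq
      rw [← h2, ← heq] at h1
      exact Prod.ext heq (mul_left_cancel h1)
    · rw [Set.Finite.mem_toFinset] at hx
      obtain ⟨c, rfl⟩ := hx
      set x := c • u with hx
      have hxo : orderOf x = 2 := by
        rw [hx, hsmul, ← hu]
        simpa using orderOf_injective (MulAut.conj (c : G)).toMonoidHom (MulAut.conj (c : G)).injective u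
      have hxg : x * g * x⁻¹ = g⁻¹ := by
        have hcg := Subgroup.mem_centralizer_singleton_iff.1 c.2
        have hcg' : (c : G)⁻¹ * g * c = g := by rw [mul_assoc, ← hcg, inv_mul_cancel_left]
        calc x * g * x⁻¹ = (c : G) * (u * ((c : G)⁻¹ * g * c) * u⁻¹) * (c : G)⁻¹ := by
              rw [hx, hsmul]; group
          _ = ((c : G) * g * (c : G)⁻¹)⁻¹ := by rw [hcg', hug]; group
          _ = g⁻¹ := by rw [hcg, mul_inv_cancel_right]
      have hx' := hinv2 x hxo
      have hxg1 : orderOf (x * g) = 2 := by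
        refine CfsgLib.Signalizer.orderOf_eq_two_of (fun e => hg ?_) ?_
        · rw [eq_inv_of_mul_eq_one_right e, hx'.2, hx'.1]
        · nth_rw 1 [← hx'.2]
          calc x⁻¹ * g * (x * g) = (x * x)⁻¹ * (x * g * x⁻¹) * (x * x) * g := by group
            _ = 1 := by rw [hx'.1, hxg]; group
      refine ⟨(x, x * g), Finset.mem_filter.2 ⟨Finset.mem_product.2 ⟨(hK _).2 hxo, (hK _).2 hxg1⟩, ?_⟩, rfl⟩
      change x * (x * g) = g
      rw [← mul_assoc, hx'.1, one_mul]
  apply hnd
  refine hf.trans ?_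
  rw [hcard, Nat.card_coe_set_eq, ← MulAction.index_stabilizer C u]
  exact Subgroup.index_dvd_card _

/-- Two swappers of a pair have the same centre. -/
theorem same_centre (h : Hyp G Ω p r) {u w : G} (hu : orderOf u = 2) (hw : orderOf w = 2)
    {a b : Ω} (hne : a ≠ b) (hua : u • a = b) (hwa : w • a = b) {m : Ω} (hm : u • m = m) :
    w • m = m := by
  classical
  by_cases huw : u = w
  · exact huw ▸ hm
  have huu : u * u = 1 := by rw [← pow_two, ← hu, pow_orderOf_eq_one]
  have hww : w * w = 1 := by rw [← pow_two, ← hw, pow_orderOf_eq_one]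
  have hu' : u⁻¹ = u := inv_eq_of_mul_eq_one_right huu
  have hw' : w⁻¹ = w := inv_eq_of_mul_eq_one_right hww
  have hub : u • b = a := by rw [← hua, smul_smul, huu, one_smul]
  have hwb : w • b = a := by rw [← hwa, smul_smul, hww, one_smul]
  set g := u * w with hg
  have hga : g • a = a := by rw [hg, ← smul_smul, hwa, hub]
  have hgb : g • b = b := by rw [hg, ← smul_smul, hwb, hua]
  have hg1 : g ≠ 1 := fun e => huw (by rw [eq_inv_of_mul_eq_one_left e, hw'])
  have hg2 : g * g ≠ 1 := fun e => hne (ExistsUnique.unique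
    (existsUnique_fixed hab h (CfsgLib.Signalizer.orderOf_eq_two_of hg1 e)) hga hgb)
  have hug : u * g * u⁻¹ = g⁻¹ := by
    rw [hg, mul_inv_rev, hu', hw', ← mul_assoc, huu, one_mul]
  set C := Subgroup.centralizer ({g} : Set G) with hC
  rcases Nat.even_or_odd (Nat.card C) with heven | hodd
  · haveI := Fintype.ofFinite G
    -- `u` centralises an involution of `C(g)`
    set X := Finset.univ.filter fun t : G => orderOf t = 2 ∧ t ∈ C with hX
    have hXodd : Odd X.card := by
      have h1 := CfsgLib.Signalizer.odd_card_involutions (G := C) heven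
      have h2 : Nat.card {t : C // orderOf t = 2} = X.card := by
        rw [Nat.card_eq_fintype_card, Fintype.card_subtype]
        refine Finset.card_bij (fun t _ => (t : G)) (fun t ht => ?_) (fun t _ t' _ e => Subtype.ext e)
          (fun t ht => ?_)
        · exact Finset.mem_filter.2 ⟨Finset.mem_univ _,
            by rw [Subgroup.orderOf_coe]; exact (Finset.mem_filter.1 ht).2, t.2⟩
        · obtain ⟨h3, h4⟩ := (Finset.mem_filter.1 ht).2
          exact ⟨⟨t, h4⟩, Finset.mem_filter.2 ⟨Finset.mem_univ _,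
            by rw [Subgroup.orderOf_mk]; exact h3⟩, rfl⟩
      exact h2 ▸ h1
    obtain ⟨t, htX, htu⟩ : ∃ t ∈ X, u * t * u⁻¹ = t := by
      by_contra hno'
      push Not at hno'
      have hsum : ∑ _t ∈ X, (1 : ZMod 2) = 0 := by
        refine Finset.sum_involution (fun t _ => u * t * u⁻¹) (fun t _ => by decide)
          (fun t ht _ => hno' t ht) (fun t ht => ?_) (fun t _ => ?_)
        · obtain ⟨h3, h4⟩ := (Finset.mem_filter.1 ht).2
          refine Finset.mem_filter.2 ⟨Finset.mem_univ _, ?_, ?_⟩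
          · rw [← h3]
            simpa using orderOf_injective (MulAut.conj u).toMonoidHom (MulAut.conj u).injective t
          · rw [hC, Subgroup.mem_centralizer_singleton_iff] at h4 ⊢
            have h5 : u * g⁻¹ * u⁻¹ = g := by
              rw [show u * g⁻¹ * u⁻¹ = (u * g * u⁻¹)⁻¹ by group, hug, inv_inv]
            have h6 : t * g⁻¹ = g⁻¹ * t := (show Commute t g from h4).inv_right
            calc u * t * u⁻¹ * g = u * t * u⁻¹ * (u * g⁻¹ * u⁻¹) := by rw [h5]
              _ = u * (t * g⁻¹) * u⁻¹ := by group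
              _ = (u * g⁻¹ * u⁻¹) * (u * t * u⁻¹) := by rw [h6]; group
              _ = g * (u * t * u⁻¹) := by rw [h5]
        · calc u * (u * t * u⁻¹) * u⁻¹ = (u * u) * t * (u * u)⁻¹ := by group
            _ = t := by rw [huu, one_mul, inv_one, mul_one]
      rw [Finset.sum_const, nsmul_one, ZMod.natCast_eq_zero_iff_even] at hsum
      exact Nat.not_even_iff_odd.2 hXodd hsum
    obtain ⟨ht2, htC⟩ := (Finset.mem_filter.1 htX).2
    obtain ⟨c, hc, huniq⟩ := existsUnique_fixed hab h ht2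
    change t • c = c at hc
    have hfix : ∀ z : G, z * t = t * z → z • c = c := fun z hz => huniq _ (by
      change t • z • c = z • c
      rw [smul_smul, ← hz, ← smul_smul, hc])
    have huc : u • c = c := hfix u (mul_inv_eq_iff_eq_mul.1 htu)
    have hgc : g • c = c := hfix g (Subgroup.mem_centralizer_singleton_iff.1 htC).symm
    have hmc : m = c := ExistsUnique.unique (existsUnique_fixed hab h hu) hm huc
    rw [hmc, show w = u * g by rw [hg, ← mul_assoc, huu, one_mul], ← smul_smul, hgc, huc]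
  · exfalso
    have hp' := dvd_card_centralizer hab h a hg2 hu hug hodd
    have huC : u ∈ Subgroup.normalizer (C : Set G) := by
      have hz : ∀ z, z ∈ C → u * z * u⁻¹ ∈ C := fun z hz => by
        rw [hC, Subgroup.mem_centralizer_singleton_iff] at hz ⊢
        have h5 : u * g⁻¹ * u⁻¹ = g := by
          rw [show u * g⁻¹ * u⁻¹ = (u * g * u⁻¹)⁻¹ by group, hug, inv_inv]
        have h6 : z * g⁻¹ = g⁻¹ * z := (show Commute z g from hz).inv_right
        calc u * z * u⁻¹ * g = u * z * u⁻¹ * (u * g⁻¹ * u⁻¹) := by rw [h5]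
          _ = u * (z * g⁻¹) * u⁻¹ := by group
          _ = (u * g⁻¹ * u⁻¹) * (u * z * u⁻¹) := by rw [h6]; group
          _ = g * (u * z * u⁻¹) := by rw [h5]
      rw [Subgroup.mem_normalizer_iff]
      refine fun z => ⟨hz z, fun hz' => ?_⟩
      have := hz _ hz'
      rwa [show u * (u * z * u⁻¹) * u⁻¹ = (u * u) * z * (u * u)⁻¹ by group, huu, one_mul, inv_one,
        mul_one] at this
    obtain ⟨T, v, hv, hvu, hvT⟩ := exists_involution_normalizing_sylow (p := p) hu huC hodd
    set T' := (T : Subgroup C).map C.subtype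
    have hT'p : IsPGroup p T' := T.2.map _
    obtain ⟨x, hx, hx1⟩ : ∃ x ∈ T', x ≠ 1 := by
      refine T'.bot_or_exists_ne_one.resolve_left fun e => ?_
      have hTc := T.card_eq_multiplicity
      rw [(Subgroup.map_eq_bot_iff_of_injective _ C.subtype_injective).1 e, Subgroup.card_bot] at hTc
      have hpos := hp.out.factorization_pos_of_dvd Nat.card_pos.ne' hp'
      exact absurd hTc.symm (Nat.one_lt_pow hpos.ne' hp.out.one_lt).ne'
    have hvx := conj_eq_inv h.cent hv hT'p hvT hx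
    obtain ⟨Q, hQ⟩ := hT'p.exists_le_sylow
    have hvQ := inverts_sylow hab h Q hv (hQ hx) hx1 hvx
    have hgN : g ∈ Subgroup.normalizer ((Q : Subgroup G) : Set G) := by
      refine mem_normalizer_of_cent hab h Q (hQ hx) hx1 ?_
      rw [Subgroup.mem_centralizer_singleton_iff]
      exact (Subgroup.mem_centralizer_singleton_iff.1 (Subgroup.map_subtype_le _ hx)).symm
    have hvg : v * g * v⁻¹ = g⁻¹ := by
      have h1 := Subgroup.mem_centralizer_singleton_iff.1 hvu
      calc v * g * v⁻¹ = u * ((u⁻¹ * v) * g * (u⁻¹ * v)⁻¹) * u⁻¹ := by group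
        _ = g⁻¹ := by rw [h1, mul_inv_cancel_right, hug]
    have hgg : g * g ∈ (Q : Subgroup G) := by
      refine mem_of_commute hab h a Q fun z hz => ?_
      set z' := g * z * g⁻¹ with hz'
      have hz'Q : z' ∈ (Q : Subgroup G) := (Subgroup.mem_normalizer_iff.1 hgN z).1 hz
      have h1 : g⁻¹ * z⁻¹ * g = z'⁻¹ := by
        rw [← hvQ z' hz'Q, ← hvQ z hz, hz']
        calc g⁻¹ * (v * z * v⁻¹) * g = g⁻¹ * (v * z * v⁻¹) * g⁻¹⁻¹ := by rw [inv_inv]
          _ = (v * g * v⁻¹) * (v * z * v⁻¹) * (v * g * v⁻¹)⁻¹ := by rw [hvg]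
          _ = v * (g * z * g⁻¹) * v⁻¹ := by group
      have h2 : g⁻¹ * z * g = z' := by rw [← inv_inj, ← h1]; group
      calc g * g * z = g * z' * g := by rw [hz']; group
        _ = g * (g⁻¹ * z * g) * g := by rw [h2]
        _ = z * (g * g) := by group
    exact hg2 (sylow_free hab h Q hgg (a := a) (by rw [← smul_smul, hga, hga]))

/-- The Sylow subgroup is normal. -/
theorem sylow_normal (h : Hyp G Ω p r) (P : Sylow p G) {v : G} (hv : orderOf v = 2)
    (hvP : ∀ x ∈ (P : Subgroup G), v * x * v⁻¹ = x⁻¹) : (P : Subgroup G).Normal := by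
  classical
  haveI := Fintype.ofFinite G
  haveI := Fintype.ofFinite Ω
  obtain ⟨a₀, ha₀, -⟩ := existsUnique_fixed hab h hv
  change v • a₀ = a₀ at ha₀
  set I := Finset.univ.filter fun t : G => orderOf t = 2 with hI
  have hmem : ∀ t, t ∈ I ↔ orderOf t = 2 := fun t => by simp [hI]
  have hconj : ∀ (g t : G), orderOf (g * t * g⁻¹) = orderOf t := fun g t => by
    simpa using orderOf_injective (MulAut.conj g).toMonoidHom (MulAut.conj g).injective t
  -- involutions with given centre
  let Im : Ω → Finset G := fun m => I.filter fun t => t • m = m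
  set n := (Im a₀).card with hn
  have hIm : ∀ m, (Im m).card = n := by
    intro m
    obtain ⟨g, hg⟩ := exists_smul_eq G a₀ m
    refine (Finset.card_bij (fun t _ => g * t * g⁻¹) (fun t ht => ?_) (fun t _ t' _ e => ?_)
      (fun t ht => ⟨g⁻¹ * t * g, ?_, ?_⟩)).symm
    · obtain ⟨h1, h2⟩ := Finset.mem_filter.1 ht
      refine Finset.mem_filter.2 ⟨(hmem _).2 (by rw [hconj]; exact (hmem _).1 h1), ?_⟩
      rw [← hg, ← smul_smul, ← smul_smul, inv_smul_smul, h2]
    · exact mul_left_cancel (mul_right_cancel e)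
    · obtain ⟨h1, h2⟩ := Finset.mem_filter.1 ht
      refine Finset.mem_filter.2 ⟨(hmem _).2 ?_, ?_⟩
      · have := hconj g⁻¹ t
        rw [inv_inv] at this
        rw [this]; exact (hmem _).1 h1
      · rw [← smul_smul, ← smul_smul, hg, h2, ← hg, inv_smul_smul]
    · group
  -- pairs and their swappers
  set E := Finset.univ.filter fun e : Ω × Ω => e.1 ≠ e.2 with hE
  let Sw : Ω × Ω → Finset G := fun e => I.filter fun t => t • e.1 = e.2
  have hsub : ∀ e ∈ E, ∀ t ∈ Sw e, ∀ m, t • m = m → Sw e ⊆ Im m := by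
    intro e he t ht m hm s hs
    obtain ⟨ht1, ht2⟩ := Finset.mem_filter.1 ht
    obtain ⟨hs1, hs2⟩ := Finset.mem_filter.1 hs
    exact Finset.mem_filter.2 ⟨hs1, same_centre hab h ((hmem _).1 ht1) ((hmem _).1 hs1)
      (Finset.mem_filter.1 he).2 ht2 hs2 hm⟩
  have hle : ∀ e ∈ E, (Sw e).card ≤ n := by
    intro e he
    rcases (Sw e).eq_empty_or_nonempty with h0 | ⟨t, ht⟩
    · rw [h0, Finset.card_empty]; exact Nat.zero_le _
    · obtain ⟨m, hm, -⟩ := existsUnique_fixed hab h ((hmem _).1 (Finset.mem_filter.1 ht).1)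
      exact (Finset.card_le_card (hsub e he t ht m hm)).trans (hIm m).le
  have hIcard : I.card = Fintype.card Ω * n := by
    have h1 : I = Finset.univ.biUnion Im := by
      ext t
      simp only [Finset.mem_biUnion, Finset.mem_univ, true_and]
      refine ⟨fun ht => ?_, fun ⟨m, hm⟩ => (Finset.mem_filter.1 hm).1⟩
      obtain ⟨m, hm, -⟩ := existsUnique_fixed hab h ((hmem _).1 ht)
      exact ⟨m, Finset.mem_filter.2 ⟨ht, hm⟩⟩
    rw [h1, Finset.card_biUnion]
    · simp [hIm]
    · intro x _ y _ hxy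
      exact Finset.disjoint_left.2 fun t ht ht' => hxy (ExistsUnique.unique
        (existsUnique_fixed hab h ((hmem _).1 (Finset.mem_filter.1 ht).1))
        (Finset.mem_filter.1 ht).2 (Finset.mem_filter.1 ht').2)
  have hEcard : E.card = Fintype.card Ω * (Fintype.card Ω - 1) := by
    rw [hE, show (Finset.univ.filter fun e : Ω × Ω => e.1 ≠ e.2) =
      (Finset.univ : Finset Ω).offDiag by ext e; simp, Finset.offDiag_card, Finset.card_univ,
      Nat.mul_sub_one]
  have hsum : ∑ e ∈ E, (Sw e).card = E.card * n := by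
    calc ∑ e ∈ E, (Sw e).card = ∑ t ∈ I, (E.filter fun e => t • e.1 = e.2).card := by
          simp only [Sw, Finset.card_filter]
          exact Finset.sum_comm
      _ = ∑ _t ∈ I, (Fintype.card Ω - 1) := by
          refine Finset.sum_congr rfl fun t ht => ?_
          obtain ⟨m, hm, huniq⟩ := existsUnique_fixed hab h ((hmem _).1 ht)
          change t • m = m at hm
          rw [← Finset.card_univ, ← Finset.card_erase_of_mem (Finset.mem_univ m)]
          refine Finset.card_bij (fun e _ => e.1) (fun e he => ?_) (fun e he e' he' heq => ?_)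
            (fun x hx => ?_)
          · obtain ⟨h1, h2⟩ := Finset.mem_filter.1 he
            refine Finset.mem_erase.2 ⟨fun e' => (Finset.mem_filter.1 h1).2 ?_, Finset.mem_univ _⟩
            rw [← h2, e', hm]
          · change e.1 = e'.1 at heq
            exact Prod.ext heq ((Finset.mem_filter.1 he).2.symm.trans
              (heq ▸ (Finset.mem_filter.1 he').2))
          · refine ⟨(x, t • x), Finset.mem_filter.2 ⟨Finset.mem_filter.2 ⟨Finset.mem_univ _,
              fun e => (Finset.mem_erase.1 hx).1 (huniq x e.symm)⟩, rfl⟩, rfl⟩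
      _ = E.card * n := by
          rw [Finset.sum_const, smul_eq_mul, hIcard, hEcard]; ring
  have heq : ∀ e ∈ E, (Sw e).card = n := by
    refine (Finset.sum_eq_sum_iff_of_le hle).1 ?_
    rw [hsum, Finset.sum_const, smul_eq_mul]
  -- one involution at each point
  have hone : ∀ w ∈ Im a₀, w = v := by
    intro w hw
    obtain ⟨hw1, hw2⟩ := Finset.mem_filter.1 hw
    refine eq_of_smul_eq_smul fun b : Ω => ?_
    by_cases hb : b = a₀
    · rw [hb, hw2, ha₀]
    · have hne : b ≠ v • b := fun e => hb (ExistsUnique.unique (existsUnique_fixed hab h hv) e.symm ha₀)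
      have he : (b, v • b) ∈ E := Finset.mem_filter.2 ⟨Finset.mem_univ _, hne⟩
      have hvS : v ∈ Sw (b, v • b) := Finset.mem_filter.2 ⟨(hmem _).2 hv, rfl⟩
      have hS := Finset.eq_of_subset_of_card_le (hsub _ he v hvS a₀ ha₀)
        (by rw [heq _ he, hIm])
      have hw' : w ∈ Sw (b, v • b) := by rw [hS]; exact hw
      exact (Finset.mem_filter.1 hw').2
  have hvv : v * v = 1 := by rw [← pow_two, ← hv, pow_orderOf_eq_one]
  have hv' : v⁻¹ = v := inv_eq_of_mul_eq_one_right hvv
  have hPv : ∀ t : G, orderOf t = 2 → t * v ∈ (P : Subgroup G) := by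
    intro t ht
    obtain ⟨m, hm, -⟩ := existsUnique_fixed hab h ht
    change t • m = m at hm
    obtain ⟨x, hx, hxm⟩ := exists_smul hab h P a₀ m
    have h1 : x⁻¹ * t * x = v := hone _ (Finset.mem_filter.2 ⟨(hmem _).2 (by
      have := hconj x⁻¹ t; rw [inv_inv] at this; rw [this]; exact ht), by
      rw [← smul_smul, ← smul_smul, hxm, hm, ← hxm, inv_smul_smul]⟩)
    have ht' : t = x * v * x⁻¹ := by rw [← h1]; group
    have h2 : t * v = x * (v * x⁻¹ * v⁻¹) := by
      rw [ht', hv']; group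
    rw [h2, hvP x⁻¹ (inv_mem hx), inv_inv]
    exact mul_mem hx hx
  refine ⟨fun z hz g => ?_⟩
  have hzv : orderOf (z * v) = 2 := by
    refine CfsgLib.Signalizer.orderOf_eq_two_of (fun e => ?_) ?_
    · have hvz : v = z⁻¹ := eq_inv_of_mul_eq_one_right e
      exact (odd_card_sylow h P).not_two_dvd_nat (hv ▸ Subgroup.orderOf_dvd_natCard _ (hvz ▸ inv_mem hz))
    · calc z * v * (z * v) = z * (v * z * v⁻¹) * (v * v) := by group
        _ = 1 := by rw [hvP z hz, hvv, mul_inv_cancel, one_mul]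
  have h1 := hPv (g * (z * v) * g⁻¹) (by rw [hconj]; exact hzv)
  have h2 := hPv (g * v * g⁻¹) (by rw [hconj]; exact hv)
  have h3 := mul_mem h1 (inv_mem h2)
  rwa [show g * (z * v) * g⁻¹ * v * (g * v * g⁻¹ * v)⁻¹ = g * z * g⁻¹ by group] at h3

end CfsgLib.Blocks.InvolutionPairs
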